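/-
The 2-rank of Ω(Q) over a finite field of odd characteristic.
* `exists_orth_frame` : an orthogonal basis with prescribed value on all but one vector
* `two_rank_omega_odd` : odd dimension n : rank n - 1
* `two_rank_omega_even` : even dimension n ≥ 4 : rank n - 1 for square discriminant, n - 2 otherwise
-/
import Cfsg.Agent.Lib.Orth.Spinor
import Cfsg.Agent.Lib.DiagTwo.Basic

set_option autoImplicit false
set_option linter.unusedSectionVars false

namespace Cfsg.Agent.OrthRank

open Cfsg Matrix Module Cfsg.Agent.Orth Cfsg.Agent.DiagTwo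
open QuadraticMap (polar)

variable {ι : Type} [Fintype ι] [DecidableEq ι] {F : Type*} [Field F]
variable {Q : QuadraticForm F (ι → F)}

/-- Pairwise orthogonal with respect to the polar form. -/
def OrthBasis (Q : QuadraticForm F (ι → F)) (b : Basis ι F (ι → F)) : Prop :=
  ∀ i j, i ≠ j → polar ⇑Q (b i) (b j) = 0

/-- The Gram matrix of the polar form. -/
noncomputable def gram (Q : QuadraticForm F (ι → F)) (b : Basis ι F (ι → F)) : Matrix ι ι F :=
  Matrix.of fun i j => polar ⇑Q (b i) (b j)

theorem gram_det_orth {b : Basis ι F (ι → F)} (hb : OrthBasis Q b) :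
    (gram Q b).det = ∏ i, 2 * Q (b i) := by
  have : gram Q b = Matrix.diagonal fun i => 2 * Q (b i) := by
    ext i j
    rcases eq_or_ne i j with rfl | h
    · simp [gram, pl_self]
    · simp [gram, hb i j h, h]
  rw [this, Matrix.det_diagonal]

theorem isSquare_gram_det_mul (b b' : Basis ι F (ι → F)) :
    IsSquare ((gram Q b).det * (gram Q b').det) := by
  have key : ∀ c : Basis ι F (ι → F), ∃ d, (gram Q c).det =
      d ^ 2 * (gram Q (Pi.basisFun F ι)).det := fun c => by
    refine ⟨((Pi.basisFun F ι).toMatrix c).det, ?_⟩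
    have e : ∀ c' : Basis ι F (ι → F), gram Q c' = LinearMap.BilinForm.toMatrix c' Q.polarBilin := by
      intro c'; ext i j; simp [gram, LinearMap.BilinForm.toMatrix_apply]
    rw [e c, e, ← LinearMap.BilinForm.toMatrix_mul_basis_toMatrix (Pi.basisFun F ι) c,
      Matrix.det_mul, Matrix.det_mul, Matrix.det_transpose]
    ring
  obtain ⟨d, hd⟩ := key b
  obtain ⟨d', hd'⟩ := key b'
  exact ⟨d * d' * (gram Q (Pi.basisFun F ι)).det, by rw [hd, hd']; ring⟩

/-- Orthogonal families of vectors of norm c can be extended up to length n - 1. -/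
theorem exists_orth_family [Fintype F] (hQ : Q.polarBilin.Nondegenerate) (h2 : (2 : F) ≠ 0)
    {c : F} (hc : c ≠ 0) (k : ℕ) (hk : k + 1 ≤ Fintype.card ι) :
    ∃ u : Fin k → ι → F, (∀ i, Q (u i) = c) ∧ ∀ i j, i ≠ j → polar ⇑Q (u i) (u j) = 0 := by
  induction k with
  | zero => exact ⟨fun i => i.elim0, fun i => i.elim0, fun i => i.elim0⟩
  | succ k ih =>
    obtain ⟨u, hu, ho⟩ := ih (by omega)
    have hnd : ∀ x ∈ orthFam Q u, x ≠ 0 → ∃ y ∈ orthFam Q u, polar ⇑Q x y ≠ 0 := by
      intro x hx hx0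
      obtain ⟨y, hy⟩ := exists_polar_ne hQ hx0
      have hx' := mem_orthFam.1 hx
      refine ⟨y - ∑ i, (polar ⇑Q (u i) y / (2 * c)) • u i, mem_orthFam.2 fun j => ?_, ?_⟩
      · rw [← QuadraticMap.polarBilin_apply_apply, map_sub, map_sum]
        simp only [map_smul, QuadraticMap.polarBilin_apply_apply, smul_eq_mul]
        rw [Finset.sum_eq_single j (fun i _ hij => by rw [ho j i hij.symm, mul_zero]) (by simp),
          pl_self, hu, div_mul_cancel₀ _ (mul_ne_zero h2 hc), sub_self]
      · rw [← QuadraticMap.polarBilin_apply_apply, map_sub, map_sum]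
        simp only [map_smul, QuadraticMap.polarBilin_apply_apply, smul_eq_mul]
        rw [Finset.sum_eq_zero fun i _ => by rw [pl_comm Q x (u i), hx' i, mul_zero], sub_zero]
        exact hy
    obtain ⟨v, hv, hvc⟩ := exists_Q_eq_in (Q := Q) (orthFam Q u) hnd
      (by have := card_le_finrank_orthFam (Q := Q) u; omega) c
    refine ⟨Fin.cons v u, Fin.cases (by simpa using hvc) (by simpa using hu), ?_⟩
    intro i j hij
    cases i using Fin.cases with
    | zero =>
      cases j using Fin.cases with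
      | zero => exact absurd rfl hij
      | succ j => simpa [pl_comm Q v] using mem_orthFam.1 hv j
    | succ i =>
      cases j using Fin.cases with
      | zero => simpa using mem_orthFam.1 hv i
      | succ j => simpa using ho i j (fun h => hij (h ▸ rfl))

/-- An orthogonal basis with Q = c on all but one vector. -/
theorem exists_orth_frame [Fintype F] (hQ : Q.polarBilin.Nondegenerate) (h2 : (2 : F) ≠ 0)
    {c : F} (hc : c ≠ 0) (i₀ : ι) :
    ∃ b : Basis ι F (ι → F), OrthBasis Q b ∧ (∀ i, i ≠ i₀ → Q (b i) = c) ∧ Q (b i₀) ≠ 0 := by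
  obtain ⟨k, hk⟩ : ∃ k, Fintype.card {i // i ≠ i₀} = k := ⟨_, rfl⟩
  have hk1 : Fintype.card ι = k + 1 := by
    have := Fintype.card_subtype_compl (fun i => i = i₀)
    simp at this hk
    have : 0 < Fintype.card ι := Fintype.card_pos_iff.2 ⟨i₀⟩
    omega
  obtain ⟨u, hu, ho⟩ := exists_orth_family hQ h2 hc k hk1.ge
  obtain ⟨x, hx0, hx⟩ := exists_mem_orth (Q := Q) u (by omega)
  let e : {i // i ≠ i₀} ≃ Fin k := Fintype.equivFinOfCardEq hk
  let v : ι → ι → F := fun i => if h : i = i₀ then x else u (e ⟨i, h⟩)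
  have hv0 : v i₀ = x := by simp [v]
  have hvi : ∀ i, ∀ h : i ≠ i₀, v i = u (e ⟨i, h⟩) := fun i h => by simp [v, h]
  have hvo : ∀ i j, i ≠ j → polar ⇑Q (v i) (v j) = 0 := by
    intro i j hij
    by_cases hi : i = i₀
    · subst hi
      rw [hv0, hvi j hij.symm, pl_comm]; exact hx _
    · by_cases hj : j = i₀
      · subst hj
        rw [hv0, hvi i hi]; exact hx _
      · rw [hvi i hi, hvi j hj]
        exact ho _ _ fun h => hij (congrArg Subtype.val (e.injective h))
  have hind : LinearIndependent F v := by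
    rw [Fintype.linearIndependent_iff]
    intro g hg j
    have h0 : ∀ i, i ≠ i₀ → g i = 0 := fun i hi => by
      have := congrArg (fun w => polar ⇑Q (v i) w) hg
      simp only [← QuadraticMap.polarBilin_apply_apply, map_sum, map_smul, map_zero] at this
      simp only [QuadraticMap.polarBilin_apply_apply, smul_eq_mul] at this
      rw [Finset.sum_eq_single i (fun l _ hl => by rw [hvo i l hl.symm, mul_zero]) (by simp),
        pl_self, hvi i hi, hu] at this
      simpa [h2, hc] using this
    by_cases hj : j = i₀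
    · rw [Finset.sum_eq_single j (fun l _ hl => by rw [h0 l (hj ▸ hl), zero_smul]) (by simp),
        hj, hv0] at hg
      rw [hj]
      exact (smul_eq_zero.1 hg).resolve_right hx0
    · exact h0 j hj
  have : Nonempty ι := ⟨i₀⟩
  let b := basisOfLinearIndependentOfCardEqFinrank hind (by rw [finrank_space])
  have hb : ∀ i, b i = v i := fun i => by simp [b]
  refine ⟨b, fun i j h => by rw [hb, hb]; exact hvo i j h, fun i hi => by rw [hb, hvi i hi]; exact hu _,
    fun h => ?_⟩
  rw [hb] at h
  have hzero : Q.polarBilin (v i₀) = 0 := b.ext fun j => by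
    rw [hb, QuadraticMap.polarBilin_apply_apply, LinearMap.zero_apply]
    rcases eq_or_ne i₀ j with rfl | hj
    · rw [pl_self, h, mul_zero]
    · exact hvo _ _ hj
  exact hx0 (hv0 ▸ hQ.1 (v i₀) fun y => by rw [hzero]; rfl)

theorem ext_basis (b : Basis ι F (ι → F)) {g h : IsoGrp Q} (H : ∀ i, ap g (b i) = ap h (b i)) :
    g = h :=
  ext_ap fun x => LinearMap.congr_fun (b.ext H) x

theorem Q_ne_zero_of_orth (hQ : Q.polarBilin.Nondegenerate) {b : Basis ι F (ι → F)}
    (hb : OrthBasis Q b) (i : ι) : Q (b i) ≠ 0 := by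
  intro h
  have hzero : Q.polarBilin (b i) = 0 := b.ext fun j => by
    rw [QuadraticMap.polarBilin_apply_apply, LinearMap.zero_apply]
    rcases eq_or_ne i j with rfl | hj
    · rw [pl_self, h, mul_zero]
    · exact hb _ _ hj
  exact b.ne_zero i (hQ.1 (b i) fun y => by rw [hzero]; rfl)

open Classical in
/-- The involution changing the signs of the basis vectors in S. -/
theorem exists_flip [Fintype F] (hG : Good Q) {b : Basis ι F (ι → F)} (hb : OrthBasis Q b) (S : Finset ι) :
    ∃ g : IsoGrp Q, (∀ i, ap g (b i) = sgn F (decide (i ∈ S)) • b i) ∧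
      dick g = (-1) ^ S.card ∧ spin g = ∏ i ∈ S, quadraticChar F (Q (b i)) := by
  induction S using Finset.induction_on with
  | empty => exact ⟨1, by simp, by simp [dick_one], by simp [spin_one]⟩
  | insert a S ha ih =>
    obtain ⟨g, hg, hd, hs⟩ := ih
    have hQa := Q_ne_zero_of_orth hG.nd hb a
    refine ⟨refl Q (b a) * g, fun i => ?_, ?_, ?_⟩
    · rw [ap_mul, hg, map_smul]
      rcases eq_or_ne i a with rfl | hi
      · simp [refl_ap_self Q hQa, ha]
      · rw [refl_ap_of_orth Q (hb a i hi.symm)]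
        simp [hi]
    · rw [dick_refl_mul hG.nd g hQa, hd, Finset.card_insert_of_notMem ha, pow_succ]; ring
    · rw [spin_refl_mul hG.nd g hQa, hs, Finset.prod_insert ha]

open Classical in
theorem pRankAtLeast_of_frame [Fintype F] (hG : Good Q) (h2 : (2 : F) ≠ 0) {b : Basis ι F (ι → F)}
    (hb : OrthBasis Q b) (T : Finset ι) (ε : ℤ) (hT : ∀ i ∈ T, quadraticChar F (Q (b i)) = ε)
    {j₀ : ι} (hj : j₀ ∈ T) : PRankAtLeast 2 (T.card - 1) ↥(Omega F ⇑Q) := by
  have hε : ε * ε = 1 := by
    rw [← hT j₀ hj, ← sq]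
    exact quadraticChar_sq_one (Q_ne_zero_of_orth hG.nd hb j₀)
  let P : Finset ι → Prop := fun S => S ⊆ T ∧ Even S.card
  have hmem : ∀ S, P S → ∃ g : ↥(Omega F ⇑Q),
      ∀ i, ap g.1 (b i) = sgn F (decide (i ∈ S)) • b i := fun S hS => by
    obtain ⟨g, hg, hd, hs⟩ := exists_flip hG hb S
    refine ⟨⟨g, (mem_omega_iff hG g).2 ⟨by rw [hd, hS.2.neg_one_pow], ?_⟩⟩, hg⟩
    rw [hs, Finset.prod_congr rfl fun i hi => hT i (hS.1 hi), Finset.prod_const]
    obtain ⟨k, hk⟩ := hS.2
    rw [hk, pow_add, ← mul_pow, hε, one_pow]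
  let A : Subgroup ↥(Omega F ⇑Q) :=
    { carrier := {g | ∃ S, P S ∧ ∀ i, ap g.1 (b i) = sgn F (decide (i ∈ S)) • b i}
      mul_mem' := by
        rintro g h ⟨S, hS, hg⟩ ⟨R, hR, hh⟩
        refine ⟨symmDiff S R, ⟨?_, ?_⟩, fun i => ?_⟩
        · exact symmDiff_le (le_sup_of_le_right hS.1) (le_sup_of_le_right hR.1)
        · have h1 : (symmDiff S R).card + 2 * (S ∩ R).card = S.card + R.card := by
            rw [symmDiff_def, Finset.sup_eq_union, Finset.card_union_of_disjoint disjoint_sdiff_sdiff]
            have := Finset.card_sdiff_add_card_inter S R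
            have := Finset.card_sdiff_add_card_inter R S
            rw [Finset.inter_comm R S] at this
            omega
          have := hS.2
          have := hR.2
          rw [Nat.even_iff] at *
          omega
        · rw [Subgroup.coe_mul, ap_mul, hh, map_smul, hg, smul_smul, ← sgn_xor]
          congr 2
          by_cases h1 : i ∈ S <;> by_cases h3 : i ∈ R <;> simp [Finset.mem_symmDiff, h1, h3]
      one_mem' := ⟨∅, ⟨Finset.empty_subset _, by simp⟩, fun i => by simp⟩
      inv_mem' := by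
        rintro g ⟨S, hS, hg⟩
        refine ⟨S, hS, fun i => ap_inj g.1 ?_⟩
        rw [Subgroup.coe_inv, ap_ap_inv, map_smul, hg, smul_smul, sgn_mul_self, one_smul] }
  refine ⟨A, ⟨⟨?_⟩⟩, ?_, ?_⟩
  · rintro ⟨g, S, hS, hg⟩ ⟨h, R, hR, hh⟩
    refine Subtype.ext (Subtype.ext (ext_basis b fun i => ?_))
    show ap (g.1 * h.1) (b i) = ap (h.1 * g.1) (b i)
    rw [ap_mul, ap_mul, hh, map_smul, hg, map_smul, hh, smul_comm]
  · rintro g ⟨S, -, hg⟩
    refine Subtype.ext (ext_basis b fun i => ?_)
    rw [pow_two]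
    show ap (g.1 * g.1) (b i) = ap 1 (b i)
    rw [ap_mul, hg, map_smul, hg, smul_smul, sgn_mul_self, one_smul, ap_one]
  · let ext : Finset ι → Finset ι := fun S => if Even S.card then S else insert j₀ S
    have hext : ∀ S ∈ (T.erase j₀).powerset, P (ext S) ∧ (ext S).erase j₀ = S := by
      intro S hS
      rw [Finset.mem_powerset] at hS
      have hj' : j₀ ∉ S := fun h => by simpa using hS h
      have hST : S ⊆ T := hS.trans (Finset.erase_subset _ _)
      by_cases he : Even S.card
      · simp only [ext, he, if_true]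
        exact ⟨⟨hST, he⟩, Finset.erase_eq_of_notMem hj'⟩
      · simp only [ext, he, if_false]
        refine ⟨⟨Finset.insert_subset hj hST, ?_⟩, Finset.erase_insert hj'⟩
        rw [Finset.card_insert_of_notMem hj', Nat.even_add_one]
        exact he
    choose φ hφ using fun S : ↥(T.erase j₀).powerset => hmem _ (hext S.1 S.2).1
    have hinj : Function.Injective (fun S => (⟨φ S, _, (hext S.1 S.2).1, hφ S⟩ : ↥A)) := by
      intro S R h
      have e : ext S.1 = ext R.1 := by
        ext i
        have h1 := hφ S i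
        have h3 := hφ R i
        rw [show φ S = φ R from congrArg Subtype.val h, h3] at h1
        have h4 := sgn_injective h2 (smul_left_injective F (b.ne_zero i) h1)
        simpa using h4.symm
      exact Subtype.ext (by rw [← (hext S.1 S.2).2, e, (hext R.1 R.2).2])
    have h5 := Nat.card_le_card_of_injective _ hinj
    rw [Nat.card_eq_finsetCard, Finset.card_powerset, Finset.card_erase_of_mem hj] at h5
    exact h5

theorem frame_of_subgroup [Fintype F] (hG : Good Q) (h2 : (2 : F) ≠ 0) (A : Subgroup ↥(Omega F ⇑Q)) [Finite A]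
    (hA : IsMulCommutative A) (hA2 : ∀ a ∈ A, a ^ 2 = 1) :
    ∃ (b : Basis ι F (ι → F)) (s : ↥A → ι → Bool), Function.Injective s ∧
      (∀ (a : ↥A) i, ap a.1.1 (b i) = sgn F (s a i) • b i) ∧ ∀ a, ∏ i, sgn F (s a i) = 1 := by
  obtain ⟨b, s, hs⟩ := exists_sign_frame h2
    (((Units.coeHom (Matrix ι ι F)).comp (isometryGroup F ⇑Q).subtype).comp (Omega F ⇑Q).subtype) A hA hA2
  have hs' : ∀ (a : ↥A) i, ap a.1.1 (b i) = sgn F (s a i) • b i := hs
  refine ⟨b, s, fun a c h => Subtype.ext (Subtype.ext (ext_basis b fun i => by rw [hs', hs', h])),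
    hs', fun a => ?_⟩
  rw [← det_of_frame (hs a)]
  show ((a.1.1 : GL ι F) : Matrix ι ι F).det = 1
  rw [det_eq_dick hG, ((mem_omega_iff hG a.1.1).1 a.1.2).1, Int.cast_one]

theorem pRankLE_pred (hG : Good Q) [Fintype F] (h2 : (2 : F) ≠ 0) :
    PRankLE 2 (Fintype.card ι - 1) ↥(Omega F ⇑Q) := by
  intro A hA hA2
  obtain ⟨b, s, hinj, -, hp⟩ := frame_of_subgroup hG h2 A hA hA2
  exact card_le_of_prod_one h2 s hinj hp

theorem two_rank_omega_odd [Fintype F] (hQ : Q.polarBilin.Nondegenerate) (h2 : (2 : F) ≠ 0)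
    (hn : Odd (Fintype.card ι)) :
    PRankAtLeast 2 (Fintype.card ι - 1) ↥(Omega F ⇑Q) ∧
      PRankLE 2 (Fintype.card ι - 1) ↥(Omega F ⇑Q) := by
  classical
  have hG := Good.of_two_ne_zero hQ h2
  refine ⟨?_, pRankLE_pred hG h2⟩
  obtain ⟨i₀⟩ : Nonempty ι := Fintype.card_pos_iff.1 hn.pos
  obtain ⟨b, hb, hb1, hb0⟩ := exists_orth_frame hQ h2 one_ne_zero i₀
  obtain ⟨b', hb', hb1', hb0'⟩ := exists_orth_frame hQ h2 hb0 i₀
  have hb2 := Q_ne_zero_of_orth hQ hb'
  have hval : quadraticChar F (Q (b' i₀)) = quadraticChar F (Q (b i₀)) := by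
    have hchar : quadraticChar F ((gram Q b).det * (gram Q b').det) = 1 := by
      refine (quadraticChar_one_iff_isSquare (mul_ne_zero ?_ ?_)).2 (isSquare_gram_det_mul b b')
      · rw [gram_det_orth hb]
        exact Finset.prod_ne_zero_iff.2 fun i _ => mul_ne_zero h2 (Q_ne_zero_of_orth hQ hb i)
      · rw [gram_det_orth hb']
        exact Finset.prod_ne_zero_iff.2 fun i _ => mul_ne_zero h2 (hb2 i)
    rw [gram_det_orth hb, gram_det_orth hb', ← Finset.prod_mul_distrib,
      ← Finset.mul_prod_erase Finset.univ _ (Finset.mem_univ i₀),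
      Finset.prod_congr rfl (g := fun _ => (2 : F) ^ 2 * Q (b i₀)) (fun i hi => by
        rw [hb1 i (Finset.ne_of_mem_erase hi), hb1' i (Finset.ne_of_mem_erase hi)]; ring),
      Finset.prod_const, Finset.card_erase_of_mem (Finset.mem_univ i₀), Finset.card_univ] at hchar
    obtain ⟨m, hm⟩ := hn
    rw [show Fintype.card ι - 1 = m * 2 by omega, pow_mul,
      show 2 * Q (b i₀) * (2 * Q (b' i₀)) * (((2 : F) ^ 2 * Q (b i₀)) ^ m) ^ 2 =
        Q (b i₀) * Q (b' i₀) * (2 * ((2 : F) ^ 2 * Q (b i₀)) ^ m) ^ 2 by ring,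
      map_mul, quadraticChar_sq_one' (mul_ne_zero h2 (pow_ne_zero _ (mul_ne_zero (pow_ne_zero _ h2) hb0))),
      mul_one, map_mul] at hchar
    exact ((Int.mul_eq_one_iff_eq_one_or_neg_one.1 hchar).elim (fun h => h.2.trans h.1.symm)
      (fun h => h.2.trans h.1.symm))
  refine pRankAtLeast_of_frame hG h2 hb' Finset.univ (quadraticChar F (Q (b i₀))) (fun i _ => ?_)
    (Finset.mem_univ i₀)
  rcases eq_or_ne i i₀ with rfl | hi
  · exact hval
  · rw [hb1' i hi]

theorem isSquare_prod_of_same_class [Fintype F] [DecidableEq F] (f : ι → F) (i₀ : ι)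
    (hne : ∀ i, f i ≠ 0) (hn : Even (Fintype.card ι))
    (h : ∀ i, quadraticChar F (f i) = quadraticChar F (f i₀)) : IsSquare (∏ i, 2 * f i) := by
  by_cases h2 : (2 : F) = 0
  · exact ⟨0, by rw [mul_zero]; exact Finset.prod_eq_zero (Finset.mem_univ i₀) (by rw [h2, zero_mul])⟩
  refine (quadraticChar_one_iff_isSquare (Finset.prod_ne_zero_iff.2 fun i _ => mul_ne_zero h2 (hne i))).1 ?_
  rw [map_prod, Finset.prod_congr rfl (g := fun _ => quadraticChar F (2 * f i₀))
    (fun i _ => by rw [map_mul, map_mul, h]), Finset.prod_const, Finset.card_univ]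
  obtain ⟨k, hk⟩ := hn
  rw [hk, ← two_mul, pow_mul, quadraticChar_sq_one (mul_ne_zero h2 (hne i₀)), one_pow]

theorem two_rank_omega_even [Fintype F] (hQ : Q.polarBilin.Nondegenerate) (h2 : (2 : F) ≠ 0)
    (hn : Even (Fintype.card ι)) (hn4 : 4 ≤ Fintype.card ι) (b₀ : Basis ι F (ι → F)) :
    (IsSquare (gram Q b₀).det →
      PRankAtLeast 2 (Fintype.card ι - 1) ↥(Omega F ⇑Q) ∧
        PRankLE 2 (Fintype.card ι - 1) ↥(Omega F ⇑Q)) ∧
    (¬ IsSquare (gram Q b₀).det →
      PRankAtLeast 2 (Fintype.card ι - 2) ↥(Omega F ⇑Q) ∧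
        PRankLE 2 (Fintype.card ι - 2) ↥(Omega F ⇑Q)) := by
  classical
  have hG := Good.of_two_ne_zero hQ h2
  obtain ⟨i₀⟩ : Nonempty ι := Fintype.card_pos_iff.1 (by omega)
  obtain ⟨b, hb, hb1, hb0⟩ := exists_orth_frame hQ h2 one_ne_zero i₀
  have hne := Q_ne_zero_of_orth hQ hb
  have hgd : ∀ c : Basis ι F (ι → F), (gram Q c).det ≠ 0 := fun c h => by
    obtain ⟨v, hv, hv0⟩ := Matrix.exists_mulVec_eq_zero_iff.2 h
    have hz : Q.polarBilin (c.equivFun.symm v) = 0 := c.ext fun j => by
      have := congrFun hv0 j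
      simp only [Matrix.mulVec, dotProduct, gram, Matrix.of_apply, Pi.zero_apply] at this
      rw [LinearMap.zero_apply, QuadraticMap.polarBilin_apply_apply, pl_comm,
        ← QuadraticMap.polarBilin_apply_apply, Basis.equivFun_symm_apply, map_sum]
      simpa [mul_comm] using this
    have h0 := hQ.1 _ fun y => (LinearMap.congr_fun hz y : _)
    exact hv (c.equivFun.symm.map_eq_zero_iff.1 h0)
  constructor
  · intro hsq
    refine ⟨?_, pRankLE_pred hG h2⟩
    refine pRankAtLeast_of_frame hG h2 hb Finset.univ 1 (fun i _ => ?_) (Finset.mem_univ i₀)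
    by_cases hi : i = i₀
    swap; · rw [hb1 i hi, map_one]
    subst hi
    have hchar : quadraticChar F (gram Q b).det = 1 := by
      have h := (quadraticChar_one_iff_isSquare (mul_ne_zero (hgd b) (hgd b₀))).2
        (isSquare_gram_det_mul b b₀)
      rwa [map_mul, (quadraticChar_one_iff_isSquare (hgd b₀)).2 hsq, mul_one] at h
    rw [gram_det_orth hb, Finset.prod_mul_distrib, Finset.prod_const, Finset.card_univ, map_mul,
      Finset.prod_eq_single i (fun j _ hj => hb1 j hj) (by simp)] at hchar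
    obtain ⟨k, hk⟩ := hn
    rw [hk, ← two_mul, mul_comm 2 k, pow_mul, quadraticChar_sq_one' (pow_ne_zero _ h2), one_mul] at hchar
    exact hchar
  · intro hsq
    constructor
    · obtain ⟨j₀, hj₀⟩ := Fintype.exists_ne_of_one_lt_card (by omega) i₀
      have h := pRankAtLeast_of_frame hG h2 hb (Finset.univ.erase i₀) 1
        (fun i hi => by rw [hb1 i (Finset.ne_of_mem_erase hi), map_one])
        (Finset.mem_erase.2 ⟨hj₀, Finset.mem_univ _⟩)
      rwa [Finset.card_erase_of_mem (Finset.mem_univ i₀), Finset.card_univ, Nat.sub_sub] at h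
    · intro A hA hA2
      obtain ⟨c, s, hinj, hs, hp⟩ := frame_of_subgroup hG h2 A hA hA2
      let E : Type := {v : ι → Bool // ∏ i, sgn F (v i) = 1}
      have hE : Nat.card E ≤ 2 ^ (Fintype.card ι - 1) :=
        card_le_of_prod_one h2 (fun v : E => v.1) Subtype.val_injective (fun v => v.2)
      obtain ⟨k, hk⟩ := IsPGroup.iff_card.1 (show IsPGroup 2 ↥A from fun a =>
        ⟨1, Subtype.ext (by simpa using hA2 a.1 a.2)⟩)
      have hle := card_le_of_prod_one h2 s hinj hp
      rw [hk, Nat.pow_le_pow_iff_right (by norm_num)] at hle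
      rw [hk, Nat.pow_le_pow_iff_right (by norm_num)]
      by_contra hlt
      have hcard : Nat.card E ≤ Nat.card ↥A := by
        rw [hk, show k = Fintype.card ι - 1 by omega]; exact hE
      let σ : ↥A → E := fun a => ⟨s a, hp a⟩
      have hσinj : Function.Injective σ := fun a a' h => hinj (congrArg Subtype.val h)
      have hσ : Function.Surjective σ :=
        (hσinj.bijective_of_nat_card_le hcard).2
      have pair : ∀ i j, i ≠ j → ∃ a : ↥A, ∀ l, s a l = decide (l = i ∨ l = j) := fun i j hij => by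
        obtain ⟨a, ha⟩ := hσ ⟨fun l => decide (l = i ∨ l = j), by
          rw [Finset.prod_eq_mul i j hij (fun l _ hl => by simp [hl.1, hl.2]) (by simp) (by simp)]
          simp⟩
        exact ⟨a, fun l => congrFun (congrArg Subtype.val ha) l⟩
      have hc : OrthBasis Q c := by
        intro i j hij
        obtain ⟨l, -, hl⟩ := Finset.exists_mem_notMem_of_card_lt_card
          (s := ({i, j} : Finset ι)) (t := Finset.univ)
          (by rw [Finset.card_univ]; exact lt_of_le_of_lt Finset.card_le_two (by omega))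
        simp only [Finset.mem_insert, Finset.mem_singleton, not_or] at hl
        obtain ⟨a, ha⟩ := pair i l (Ne.symm hl.1)
        have := polar_ap a.1.1 (c i) (c j)
        rw [hs, hs, ha, ha, pl_smul_left, pl_smul_right] at this
        simp [hij.symm, Ne.symm hl.2] at this
        have h4 : (2 : F) * polar ⇑Q (c i) (c j) = 0 := by linear_combination -this
        exact (mul_eq_zero.1 h4).resolve_left h2
      have hne' := Q_ne_zero_of_orth hQ hc
      apply hsq
      have hclass : ∀ i, quadraticChar F (Q (c i)) = quadraticChar F (Q (c i₀)) := by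
        intro i
        rcases eq_or_ne i i₀ with rfl | hi
        · rfl
        obtain ⟨a, ha⟩ := pair i i₀ hi
        have e : a.1.1 = refl Q (c i) * refl Q (c i₀) := ext_basis c fun l => by
          rw [hs, ha, ap_mul]
          rcases eq_or_ne l i₀ with rfl | h1
          · rw [refl_ap_self Q (hne' l), map_neg, refl_ap_of_orth Q (hc i l hi)]
            simp
          · rw [refl_ap_of_orth Q (hc i₀ l h1.symm)]
            rcases eq_or_ne l i with rfl | h3
            · rw [refl_ap_self Q (hne' l)]; simp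
            · rw [refl_ap_of_orth Q (hc i l h3.symm)]; simp [h1, h3]
        have h6 := ((mem_omega_iff hG a.1.1).1 a.1.2).2
        rw [e, spin_mul hG, spin_refl hQ (hne' _), spin_refl hQ (hne' _)] at h6
        exact (Int.mul_eq_one_iff_eq_one_or_neg_one.1 h6).elim (fun h => h.1.trans h.2.symm)
          (fun h => h.1.trans h.2.symm)
      have hsqc : IsSquare (gram Q c).det :=
        gram_det_orth hc ▸ isSquare_prod_of_same_class _ i₀ hne' hn hclass
      obtain ⟨r, hr⟩ := isSquare_gram_det_mul (Q := Q) c b₀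
      obtain ⟨t, ht⟩ := hsqc
      have ht0 : t ≠ 0 := fun h => hgd c (by rw [ht, h, mul_zero])
      refine ⟨r / t, ?_⟩
      field_simp
      rw [ht] at hr
      linear_combination hr

end Cfsg.Agent.OrthRank
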